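import Groth.Agent.Lib.Lead.LCZ.Main

/-! # Basis version of "local cohomology sheaves vs cohomology with supports" -/

universe u
open CategoryTheory Limits Opposite Abelian TopologicalSpace Topology

namespace Groth.Agent.H3.LCD
open Groth.Agent.LD Groth.Agent.LD.SC Groth.Agent.LD.LCZ

variable {X : TopCat.{u}}

/-- a short complex of sheaves which is exact on sections over a basis is exact. -/
lemma exact_of_sections_basis (S : ShortComplex (CohTop.Ab X)) (B : Set (Opens X))
    (hB : Opens.IsBasis B)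
    (h : ∀ V ∈ B, ∀ y : S.X₂.obj.obj (op V), S.g.hom.app (op V) y = 0 →
      ∃ x : S.X₁.obj.obj (op V), S.f.hom.app (op V) x = y) : S.Exact := by
  rw [S.exact_iff_epi_kernel_lift]
  apply (Sheaf.isLocallySurjective_iff_epi' (φ := kernel.lift S.g S.f S.zero)).mp
  apply (TopCat.Presheaf.isLocallySurjective_iff _).mpr
  intro V z x hx
  obtain ⟨W, hWB, hxW, hWV⟩ := Opens.isBasis_iff_nbhd.mp hB hx
  refine ⟨W, hWV, ?_, hxW⟩
  let zW := (kernel S.g).obj.map (homOfLE hWV).op z
  let y := (kernel.ι S.g).hom.app (op W) zW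
  have hy : S.g.hom.app (op W) y = 0 := by
    have := congrArg (fun ψ => ψ.hom.app (op W) zW) (kernel.condition S.g)
    exact this
  obtain ⟨x₁, hx₁⟩ := h W hWB y hy
  refine ⟨x₁, ?_⟩
  apply CH.app_injective_of_mono (kernel.ι S.g) W
  have h2 := congrArg (fun ψ => ψ.hom.app (op W) x₁) (kernel.lift_ι S.g S.f S.zero)
  have h3 : (kernel.ι S.g).hom.app (op W) ((kernel.lift S.g S.f S.zero).hom.app (op W) x₁) =
      S.f.hom.app (op W) x₁ := h2
  change (kernel.ι S.g).hom.app (op W) ((kernel.lift S.g S.f S.zero).hom.app (op W) x₁) =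
    (kernel.ι S.g).hom.app (op W) zW
  rw [h3, hx₁]

set_option quotPrecheck false in
/-- the complex `Γ_Z(I^•)`. -/
local notation "KZ(" U "," R ")" =>
  ((LocCohZ.sectSuppF U).mapHomologicalComplex (ComplexShape.up ℕ)).obj
    (InjectiveResolution.cocomplex R)

theorem exactAt_of_secEx_basis (U : Opens X) {F : CohTop.Ab X} (R : InjectiveResolution F)
    (B : Set (Opens X)) (hB : Opens.IsBasis B) (i : ℕ)
    (h : ∀ V ∈ B, SecEx U R V i) : KZ(U, R).ExactAt i := by
  cases i with
  | zero =>
    rw [HomologicalComplex.exactAt_iff' _ 0 0 1 (by simp) (by simp)]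
    apply exact_of_sections_basis _ B hB
    intro V hV y hy
    refine ⟨0, ?_⟩
    rw [h V hV y hy]
    exact map_zero _
  | succ k =>
    rw [HomologicalComplex.exactAt_iff' _ k (k + 1) (k + 2) (by simp) (by simp)]
    apply exact_of_sections_basis _ B hB
    intro V hV y hy
    exact h V hV y hy

/-- vanishing of `H^i_{Z ∩ V}(V, F)` for `V` in a basis kills `ℋ^i_Z(F)`. -/
theorem isZero_HZsh_of_subsingleton_basis (F : CohTop.Ab X) (U : Opens X) (i : ℕ)
    (B : Set (Opens X)) (hB : Opens.IsBasis B)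
    (h : ∀ V ∈ B, Subsingleton (LocCohZ.HZ F i (inf_le_left : V ⊓ U ≤ V))) :
    IsZero ((LocCohZ.HZsh U i).obj F) := by
  let R := InjectiveResolution.of F
  refine (Iso.isZero_iff (R.isoRightDerivedObj (LocCohZ.sectSuppF U) i)).2 ?_
  have hex : KZ(U, R).ExactAt i := by
    apply exactAt_of_secEx_basis U R B hB
    intro V hV
    exact secEx_of_subsingleton U R V i (h V hV)
  exact (HomologicalComplex.exactAt_iff_isZero_homology _ _).1 hex

end Groth.Agent.H3.LCD
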