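import Groth.Agent.Lib.Helper3.LCD.LCD2
import Groth.Agent.Lib.Helper8.CK.LocCohAff
import Groth.Agent.Lib.Helper8.CK.KLC
import Groth.Agent.Lib.Helper6.DepthInf
import Groth.Agent.Lib.Helper1.Depth2Coh

/-! # Cohomology with supports over an affine open: Koszul / local cohomology -/

universe u
set_option backward.isDefEq.respectTransparency.types false
open CategoryTheory Limits Opposite Abelian TopologicalSpace Topology AlgebraicGeometry

namespace Groth.Agent.H3.LCD
open Groth.Agent.LD Groth.Agent.LD.SC Groth.Agent.LD.LCZ Groth.Agent.H8.CK CohIII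

variable {X : Scheme.{u}} (M : X.Modules) [M.IsQuasicoherent]
  {V : X.Opens} (hV : IsAffineOpen V) (U : X.Opens)

/-- the global sections of the restriction to `Spec Γ(X, V)`, as a module. -/
noncomputable abbrev secN : ModuleCat.{u} Γ(X, V) :=
  (modulesSpecToSheaf.obj (M.restrict hV.fromSpec)).presheaf.obj (op ⊤)

theorem subsingleton_HZ_iff_koszul (gs : List Γ(X, V))
    (hgs : hV.fromSpec ⁻¹ᵁ U = iSup (cov Γ(X, V) gs)) (i : ℕ) :
    Subsingleton (LocCohZ.HZ (X := X.carrier) (Coh.toAb M) i (inf_le_left : V ⊓ U ≤ V)) ↔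
      Subsingleton (koszulHLim gs (secN M hV) i) := by
  have e1 : hV.fromSpec ''ᵁ (⊤ : (Spec Γ(X, V)).Opens) = V :=
    (Scheme.Hom.image_top_eq_opensRange _).trans hV.opensRange_fromSpec
  have e2 : hV.fromSpec ''ᵁ (hV.fromSpec ⁻¹ᵁ U) = V ⊓ U := by
    rw [Scheme.Hom.image_preimage_eq_opensRange_inf, hV.opensRange_fromSpec]
  -- (a) change the pair of opens
  rw [← subsingleton_HZ_congr (X := X.carrier) (Coh.toAb M) i
    (hV.fromSpec.image_mono (le_top : hV.fromSpec ⁻¹ᵁ U ≤ ⊤)) inf_le_left e2 e1]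
  -- (b) transport along `fromSpec`
  haveI : (M.restrict hV.fromSpec).IsQuasicoherent := inferInstance
  obtain ⟨eb⟩ := nonempty_HZ_resAb_equiv hV.fromSpec (Coh.toAb M)
    (le_top : hV.fromSpec ⁻¹ᵁ U ≤ ⊤)
    (fun p => subsingleton_ext_of_isAffineOpen (M.restrict hV.fromSpec) p ⊤ (isAffineOpen_top _))
    (fun p => by
      rw [e1]
      exact subsingleton_ext_of_isAffineOpen M p V hV) i
  refine eb.subsingleton_congr.symm.trans ?_
  -- (c) replace the restriction by the tilde of its global sections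
  have hiso : IsIso (M.restrict hV.fromSpec).fromTildeΓ := inferInstance
  have hiso' : @IsIso (SheafOfModules (Spec Γ(X, V)).ringCatSheaf) _ _ _
      (M.restrict hV.fromSpec).fromTildeΓ := hiso
  let ec : Coh.toAb (tilde (secN M hV)) ≅ Coh.toAb (M.restrict hV.fromSpec) :=
    (SheafOfModules.toSheaf (Spec Γ(X, V)).ringCatSheaf).mapIso
      (@asIso _ _ _ _ (M.restrict hV.fromSpec).fromTildeΓ hiso')
  refine (extCongrRight (LocCohZ.zq (X := (Spec Γ(X, V)).carrier)
    (le_top : hV.fromSpec ⁻¹ᵁ U ≤ ⊤)) ec i).subsingleton_congr.symm.trans ?_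
  -- (d), (e)
  obtain ⟨ee⟩ := nonempty_koszulHLim_equiv_HZ Γ(X, V) gs (secN M hV) i
  refine Iff.trans ?_ ee.toEquiv.subsingleton_congr.symm
  exact subsingleton_HZ_congr (X := (Spec Γ(X, V)).carrier) (Coh.toAb (tilde (secN M hV))) i
    _ _ hgs rfl

end Groth.Agent.H3.LCD
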