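import Groth.Agent.Lib.Helper3.LCD.LCD3

/-! # Cohomology with supports over an affine open: depth -/

universe u
set_option backward.isDefEq.respectTransparency.types false
open CategoryTheory Limits Opposite Abelian TopologicalSpace Topology AlgebraicGeometry

namespace Groth.Agent.H3.LCD
open Groth.Agent.LD Groth.Agent.LD.SC Groth.Agent.LD.LCZ Groth.Agent.H8.CK CohIII
open Groth.Agent.H6 Groth.Agent.H1.Depth2Coh Groth.Agent.LD.QC

variable {X : Scheme.{u}} [IsLocallyNoetherian X] (M : X.Modules) [M.IsQuasicoherent]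
  (hF : M.IsFiniteType) {V : X.Opens} (hV : IsAffineOpen V) (U : X.Opens)

omit [IsLocallyNoetherian X] [M.IsQuasicoherent] in
lemma depth_stalk_congr {x y : X} (e : x = y) :
    LocCoh.depth (X.presheaf.stalk x) (M.presheaf.stalk x) =
      LocCoh.depth (X.presheaf.stalk y) (M.presheaf.stalk y) := by
  subst e; rfl

/-- a list of equations for the complement of `U` in the affine open `V`. -/
theorem exists_list_cov :
    ∃ gs : List Γ(X, V), hV.fromSpec ⁻¹ᵁ U = iSup (cov Γ(X, V) gs) ∧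
      ∀ p : PrimeSpectrum Γ(X, V), hV.fromSpec p ∉ U ↔
        Ideal.span {a | a ∈ gs} ≤ p.asIdeal := by
  classical
  haveI : IsNoetherianRing Γ(X, V) := IsLocallyNoetherian.component_noetherian ⟨V, hV⟩
  obtain ⟨a, ha⟩ := (PrimeSpectrum.isClosed_iff_zeroLocus_ideal _).mp
    (hV.fromSpec ⁻¹ᵁ U).2.isClosed_compl
  obtain ⟨S, hS⟩ := (isNoetherianRing_iff_ideal_fg Γ(X, V)).mp inferInstance a
  have hset : {x | x ∈ S.toList} = (S : Set Γ(X, V)) := by
    ext x; simp
  have key : ∀ p : PrimeSpectrum Γ(X, V), hV.fromSpec p ∉ U ↔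
      Ideal.span {x | x ∈ S.toList} ≤ p.asIdeal := by
    intro p
    rw [hset, hS]
    have h1 : p ∈ (PrimeSpectrum.zeroLocus (a : Set Γ(X, V))) ↔ a ≤ p.asIdeal := by
      rw [PrimeSpectrum.mem_zeroLocus, SetLike.coe_subset_coe]
    rw [← h1, ← ha]
    exact Iff.rfl
  refine ⟨S.toList, ?_, key⟩
  apply Opens.ext
  ext p
  rw [Opens.coe_iSup, Set.mem_iUnion]
  have h2 : p ∈ (hV.fromSpec ⁻¹ᵁ U : Set _) ↔ ¬ (hV.fromSpec p ∉ U) := by
    rw [not_not]; exact Iff.rfl
  rw [h2, key p, Ideal.span_le, Set.not_subset]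
  constructor
  · rintro ⟨x, hx, hxp⟩
    obtain ⟨i, rfl⟩ := List.get_of_mem hx
    exact ⟨⟨i⟩, hxp⟩
  · rintro ⟨i, hi⟩
    exact ⟨S.toList.get i.down, List.get_mem _ _, hi⟩

include hF hV in
theorem subsingleton_HZ_affine_iff (n : ℕ) :
    (∀ i < n, Subsingleton
      (LocCohZ.HZ (X := X.carrier) (Coh.toAb M) i (inf_le_left : V ⊓ U ≤ V))) ↔
    ∀ x ∈ V, x ∉ U → (n : ℕ∞) ≤ LocCoh.depth (X.presheaf.stalk x) (M.presheaf.stalk x) := by
  haveI : IsNoetherianRing Γ(X, V) := IsLocallyNoetherian.component_noetherian ⟨V, hV⟩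
  obtain ⟨gs, hgs, hpt⟩ := exists_list_cov hV U
  haveI : Module.Finite Γ(X, V) Γ(M, V) := finite_sections_of_isFiniteType M hF hV
  haveI : Module.Finite Γ(X, V) Γ(M.restrict hV.fromSpec, ⊤) :=
    Module.Finite.equiv (topEquiv M hV)
  -- step 1: Koszul and local cohomology
  have h1 : ∀ i, Subsingleton
      (LocCohZ.HZ (X := X.carrier) (Coh.toAb M) i (inf_le_left : V ⊓ U ≤ V)) ↔
      Subsingleton (LocCoh.H (Ideal.span {a | a ∈ gs}) i Γ(M.restrict hV.fromSpec, ⊤)) := by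
    intro i
    rw [subsingleton_HZ_iff_koszul M hV U gs hgs i]
    obtain ⟨e⟩ := nonempty_lc_linearEquiv_koszulHLim gs (secN M hV) i
    exact e.toEquiv.subsingleton_congr.symm
  simp only [h1]
  constructor
  · intro h x hxV hxU
    have hx := hV.fromSpec_primeIdealOf ⟨x, hxV⟩
    set p := hV.primeIdealOf ⟨x, hxV⟩ with hp
    have hpV : hV.fromSpec p ∈ V := by rw [hx]; exact hxV
    have hpU : hV.fromSpec p ∉ U := by rw [hx]; exact hxU
    have h2 := Depth.locDepthGE_of_subsingleton_H (Ideal.span {a | a ∈ gs})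
      Γ(M.restrict hV.fromSpec, ⊤) p.asIdeal ((hpt p).mp hpU) n h
    rw [Depth.locDepthGE_iff] at h2
    have h3 := depth_eq M hF hV p hpV
    rw [← h3, depth_stalk_congr M hx] at h2
    exact h2
  · intro h
    apply Depth.subsingleton_H_of_locDepthGE (Ideal.span {a | a ∈ gs}) n
    intro p hp hIp
    rw [Depth.locDepthGE_iff]
    have hpV : hV.fromSpec ⟨p, hp⟩ ∈ V :=
      (SetLike.ext_iff.mp hV.opensRange_fromSpec _).mp ⟨⟨p, hp⟩, rfl⟩
    have hpU : hV.fromSpec ⟨p, hp⟩ ∉ U := (hpt ⟨p, hp⟩).mpr hIp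
    rw [← depth_eq M hF hV ⟨p, hp⟩ hpV]
    exact h _ hpV hpU

end Groth.Agent.H3.LCD
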