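import Groth.Agent.Lib.Helper3.LCD.LCD1
import Groth.Agent.Lib.Helper3.LCD.LCD4

/-! # Local cohomology sheaves and depth -/

universe u
open CategoryTheory Limits Opposite Abelian TopologicalSpace Topology AlgebraicGeometry

namespace Groth.Agent.H3.LCD
open Groth.Agent.LD Groth.Agent.LD.LCZ

theorem isZero_HZsh_iff_depth (X : Scheme.{u}) [IsLocallyNoetherian X] (U : X.Opens)
    (M : X.Modules) (hM : Coh.IsCoh M) (n : ℕ) :
    (∀ i : ℕ, i < n → IsZero ((LocCohZ.HZsh (X := X.carrier) U i).obj (Coh.toAb M))) ↔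
      ∀ x : X, x ∉ (U : Set X) →
        (n : ℕ∞) ≤ LocCoh.depth (X.presheaf.stalk x) (M.presheaf.stalk x) := by
  haveI : M.IsQuasicoherent := hM.1
  constructor
  · intro h x hxU
    obtain ⟨V, hV, hxV, -⟩ := exists_isAffineOpen_mem_and_subset (x := x) (U := ⊤) trivial
    have h1 := (isZero_HZsh_iff (X := X.carrier) (Coh.toAb M) U n).mp h V
    exact (subsingleton_HZ_affine_iff M hM.2 hV U n).mp h1 x hxV hxU
  · intro h i hi
    apply isZero_HZsh_of_subsingleton_basis (X := X.carrier) (Coh.toAb M) U i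
      (X.affineOpens : Set X.Opens) X.isBasis_affineOpens
    intro V hV
    exact (subsingleton_HZ_affine_iff M hM.2 hV U n).mpr (fun x _ hxU => h x hxU) i hi

end Groth.Agent.H3.LCD
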